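import Mathlib
import Groth.Agent.FlatDevLib.Basic

/-!
Differences of two flat lifts of an ideal along a square-zero extension.
-/

set_option autoImplicit false
universe u
open TensorProduct

namespace Groth.Agent.SqZeroLiftLib

variable {A' : Type u} [CommRing A'] {J : Ideal A'} {B' : Type u} [CommRing B'] [Algebra A' B']

/-- The multiplication map. -/
noncomputable def nu : B' ⊗[A'] ↥J →ₗ[A'] B' :=
  (TensorProduct.rid A' B').toLinearMap ∘ₗ LinearMap.lTensor B' (Submodule.subtype J)

theorem nu_tmul (b : B') (j : J) : nu (b ⊗ₜ[A'] j) = b * algebraMap A' B' j := by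
  simp [nu, Algebra.smul_def, mul_comm]

theorem nu_injective [Module.Flat A' B'] : Function.Injective (nu : B' ⊗[A'] ↥J →ₗ[A'] B') :=
  (TensorProduct.rid A' B').injective.comp
    (Module.Flat.lTensor_preserves_injective_linearMap _ J.injective_subtype)

theorem nu_smul (b : B') (z : B' ⊗[A'] ↥J) : nu (b • z) = b * nu z := by
  induction z using TensorProduct.induction_on with
  | zero => simp
  | tmul c j => rw [TensorProduct.smul_tmul', nu_tmul, nu_tmul, smul_eq_mul, mul_assoc]
  | add x y hx hy => simp [smul_add, map_add, hx, hy, mul_add]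

theorem exists_nu_eq {y : B'} (hy : y ∈ J.map (algebraMap A' B')) : ∃ z : B' ⊗[A'] ↥J, nu z = y := by
  induction hy using Submodule.span_induction with
  | mem x hx =>
    obtain ⟨j, hj, rfl⟩ := hx
    exact ⟨1 ⊗ₜ ⟨j, hj⟩, by simp [nu_tmul]⟩
  | zero => exact ⟨0, map_zero _⟩
  | add x y _ _ hx hy =>
    obtain ⟨a, rfl⟩ := hx; obtain ⟨b, rfl⟩ := hy
    exact ⟨a + b, map_add _ _ _⟩
  | smul r x _ hx =>
    obtain ⟨a, rfl⟩ := hx
    exact ⟨r • a, nu_smul r a⟩

theorem nu_mem_map (z : B' ⊗[A'] ↥J) : nu z ∈ J.map (algebraMap A' B') := by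
  induction z using TensorProduct.induction_on with
  | zero => simp
  | tmul c j => rw [nu_tmul]; exact Ideal.mul_mem_left _ _ (Ideal.mem_map_of_mem _ j.2)
  | add x y hx hy => rw [map_add]; exact add_mem hx hy

variable {I : Ideal (B' ⧸ J.map (algebraMap A' B'))}

variable (I) in
/-- The projection to the coefficient module. -/
noncomputable def proj : B' ⊗[A'] ↥J →ₗ[A'] ((B' ⧸ J.map (algebraMap A' B')) ⧸ I) ⊗[A'] ↥J :=
  LinearMap.rTensor ↥J (IsScalarTower.toAlgHom A' B' ((B' ⧸ J.map (algebraMap A' B')) ⧸ I)).toLinearMap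

theorem toQ_apply (y : B') : IsScalarTower.toAlgHom A' B' ((B' ⧸ J.map (algebraMap A' B')) ⧸ I) y =
    Ideal.Quotient.mk I (Ideal.Quotient.mk (J.map (algebraMap A' B')) y) := rfl

theorem toQ_surjective : Function.Surjective
    (IsScalarTower.toAlgHom A' B' ((B' ⧸ J.map (algebraMap A' B')) ⧸ I)).toLinearMap := fun x => by
  obtain ⟨y, rfl⟩ := Ideal.Quotient.mk_surjective x
  obtain ⟨z, rfl⟩ := Ideal.Quotient.mk_surjective y
  exact ⟨z, rfl⟩

theorem proj_smul (b : B') (z : B' ⊗[A'] ↥J) : proj I (b • z) = b • proj I z := by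
  induction z using TensorProduct.induction_on with
  | zero => simp
  | tmul c j =>
    rw [TensorProduct.smul_tmul', proj, LinearMap.rTensor_tmul, LinearMap.rTensor_tmul, TensorProduct.smul_tmul']
    congr 1
  | add x y hx hy => simp [smul_add, map_add, hx, hy]

theorem proj_surjective : Function.Surjective (proj I) :=
  LinearMap.rTensor_surjective _ toQ_surjective

/-- An element of a flat lift which is a multiple of `J` has zero coefficient. -/
theorem proj_eq_zero {K : Ideal B'} [Module.Flat A' (B' ⧸ K)]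
    (hK : K.map (Ideal.Quotient.mk (J.map (algebraMap A' B'))) ≤ I) (z : B' ⊗[A'] ↥J) (h : nu z ∈ K) :
    proj I z = 0 := by
  let π := Ideal.Quotient.mkₐ A' K
  let g : (B' ⧸ K) →ₐ[A'] ((B' ⧸ J.map (algebraMap A' B')) ⧸ I) :=
    Ideal.Quotient.liftₐ K (IsScalarTower.toAlgHom A' B' _) fun a ha => by
      rw [toQ_apply, Ideal.Quotient.eq_zero_iff_mem]
      exact hK (Ideal.mem_map_of_mem _ ha)
  have hnu : ∀ w : B' ⊗[A'] ↥J, TensorProduct.rid A' (B' ⧸ K)
      (LinearMap.lTensor (B' ⧸ K) (Submodule.subtype J) (LinearMap.rTensor ↥J π.toLinearMap w)) = π (nu w) := by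
    intro w
    induction w using TensorProduct.induction_on with
    | zero => simp
    | tmul c j => simp [π, nu_tmul, Algebra.smul_def, mul_comm]
    | add x y hx hy => simp [map_add, hx, hy]
  have h0 : LinearMap.rTensor ↥J π.toLinearMap z = 0 := by
    apply (TensorProduct.rid A' (B' ⧸ K)).injective.comp
      (Module.Flat.lTensor_preserves_injective_linearMap (M := B' ⧸ K) _ J.injective_subtype)
    simp only [Function.comp_apply, hnu, map_zero]
    exact Ideal.Quotient.eq_zero_iff_mem.2 h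
  have hfac : (IsScalarTower.toAlgHom A' B' ((B' ⧸ J.map (algebraMap A' B')) ⧸ I)).toLinearMap =
      g.toLinearMap ∘ₗ π.toLinearMap := LinearMap.ext fun x => rfl
  rw [proj, hfac, LinearMap.rTensor_comp, LinearMap.comp_apply, h0, map_zero]

/-- The coefficient kernel lies in every lift. -/
theorem nu_mem_of_proj_eq_zero (hJ : J * J = ⊥) {K : Ideal B'}
    (hK : I ≤ K.map (Ideal.Quotient.mk (J.map (algebraMap A' B')))) (z : B' ⊗[A'] ↥J) (h : proj I z = 0) :
    nu z ∈ K := by
  let f := (IsScalarTower.toAlgHom A' B' ((B' ⧸ J.map (algebraMap A' B')) ⧸ I)).toLinearMap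
  have hex := rTensor_exact ↥J (f := (LinearMap.ker f).subtype) (g := f)
    (LinearMap.exact_subtype_ker_map f) toQ_surjective
  obtain ⟨w, rfl⟩ := (hex z).1 h
  clear h
  induction w using TensorProduct.induction_on with
  | zero => simp
  | tmul c j =>
    rw [LinearMap.rTensor_tmul, nu_tmul]
    have hc : Ideal.Quotient.mk (J.map (algebraMap A' B')) (c : B') ∈ I := by
      rw [← Ideal.Quotient.eq_zero_iff_mem]; exact c.2
    obtain ⟨k, hk, hkc⟩ := (Ideal.mem_map_iff_of_surjective _ Ideal.Quotient.mk_surjective).1 (hK hc)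
    have hd : (c : B') - k ∈ J.map (algebraMap A' B') := Ideal.Quotient.eq.1 hkc.symm
    have h0 : ((c : B') - k) * algebraMap A' B' j = 0 := by
      have := Ideal.mul_mem_mul hd (Ideal.mem_map_of_mem (algebraMap A' B') j.2)
      rwa [← Ideal.map_mul, hJ, Ideal.map_bot, Ideal.mem_bot] at this
    rw [sub_mul, sub_eq_zero] at h0
    change (c : B') * _ ∈ K
    rw [h0]
    exact Ideal.mul_mem_right _ _ hk
  | add x y hx hy => simp only [map_add]; exact add_mem hx hy

/-- Flatness of a lift. -/
theorem flat_lift (hJ : J * J = ⊥) [Module.Flat (A' ⧸ J) ((B' ⧸ J.map (algebraMap A' B')) ⧸ I)] (K : Ideal B')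
    (hK : K.map (Ideal.Quotient.mk (J.map (algebraMap A' B'))) = I)
    (hzero : ∀ z : B' ⊗[A'] ↥J, nu z ∈ K → proj I z = 0) : Module.Flat A' (B' ⧸ K) := by
  let Q := (B' ⧸ J.map (algebraMap A' B')) ⧸ I
  let g : (B' ⧸ K) →ₐ[A'] Q :=
    Ideal.Quotient.liftₐ K (IsScalarTower.toAlgHom A' B' _) fun a ha => by
      rw [toQ_apply, Ideal.Quotient.eq_zero_iff_mem]
      exact hK.le (Ideal.mem_map_of_mem _ ha)
  have hg : Function.Surjective g.toLinearMap := fun x => by
    obtain ⟨y, hy⟩ := toQ_surjective (I := I) x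
    exact ⟨Ideal.Quotient.mk K y, hy⟩
  have hker : LinearMap.ker g.toLinearMap = J • (⊤ : Submodule A' (B' ⧸ K)) := by
    refine le_antisymm ?_ (Submodule.smul_le.2 fun j hj x _ => ?_)
    · intro x hx
      obtain ⟨y, rfl⟩ := Ideal.Quotient.mk_surjective x
      have hy : Ideal.Quotient.mk (J.map (algebraMap A' B')) y ∈ I := Ideal.Quotient.eq_zero_iff_mem.1 hx
      rw [← hK, Ideal.mem_map_iff_of_surjective _ Ideal.Quotient.mk_surjective] at hy
      obtain ⟨k, hk, e⟩ := hy
      obtain ⟨z, hz⟩ := exists_nu_eq (Ideal.Quotient.eq.1 e.symm)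
      have : Ideal.Quotient.mk K y = Ideal.Quotient.mk K (nu z) := by
        rw [Ideal.Quotient.eq, hz]; simpa using hk
      rw [this]
      clear this hz
      induction z using TensorProduct.induction_on with
      | zero => simp
      | tmul c j =>
        have : Ideal.Quotient.mk K (nu (c ⊗ₜ[A'] j)) = (j : A') • Ideal.Quotient.mk K c := by
          rw [nu_tmul, Algebra.smul_def, mul_comm, map_mul]; rfl
        rw [this]
        exact Submodule.smul_mem_smul j.2 trivial
      | add a b ha hb => rw [map_add, map_add]; exact add_mem ha hb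
    · obtain ⟨y, rfl⟩ := Ideal.Quotient.mk_surjective x
      rw [LinearMap.mem_ker, map_smul]
      change j • IsScalarTower.toAlgHom A' B' Q y = 0
      rw [← map_smul, toQ_apply, Algebra.smul_def, map_mul,
        Ideal.Quotient.eq_zero_iff_mem.2 (Ideal.mem_map_of_mem _ hj), zero_mul, map_zero]
  let e₀ : (A' ⧸ J) ⊗[A'] (B' ⧸ K) ≃ₗ[A'] Q :=
    (TensorProduct.quotTensorEquivQuotSMul (B' ⧸ K) J).trans
      ((Submodule.quotEquivOfEq _ _ hker.symm).trans (LinearMap.quotKerEquivOfSurjective _ hg))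
  haveI : Module.Flat (A' ⧸ J) ((A' ⧸ J) ⊗[A'] (B' ⧸ K)) :=
    Module.Flat.of_linearEquiv (e₀.extendScalarsOfSurjective Ideal.Quotient.mk_surjective)
  have hinj : Function.Injective ((Submodule.subtype J).rTensor (B' ⧸ K)) := by
    rw [← LinearMap.lTensor_inj_iff_rTensor_inj]
    refine (injective_iff_map_eq_zero _).2 fun t ht => ?_
    let π := Ideal.Quotient.mkₐ A' K
    obtain ⟨w, rfl⟩ := LinearMap.rTensor_surjective ↥J (g := π.toLinearMap) Ideal.Quotient.mk_surjective t
    have hnu : ∀ w : B' ⊗[A'] ↥J, TensorProduct.rid A' (B' ⧸ K)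
        (LinearMap.lTensor (B' ⧸ K) (Submodule.subtype J) (LinearMap.rTensor ↥J π.toLinearMap w)) = π (nu w) := by
      intro w
      induction w using TensorProduct.induction_on with
      | zero => simp
      | tmul c j => simp [π, nu_tmul, Algebra.smul_def, mul_comm]
      | add x y hx hy => simp [map_add, hx, hy]
    have hp : proj I w = 0 := hzero w (Ideal.Quotient.eq_zero_iff_mem.1 (by
      have := hnu w
      rw [ht, map_zero] at this
      exact this.symm))
    obtain ⟨u, rfl⟩ := (rTensor_exact ↥J (f := (LinearMap.ker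
      (IsScalarTower.toAlgHom A' B' Q).toLinearMap).subtype) (LinearMap.exact_subtype_ker_map _) toQ_surjective w).1 hp
    clear hp ht
    induction u using TensorProduct.induction_on with
    | zero => simp
    | tmul c j =>
      rw [LinearMap.rTensor_tmul, LinearMap.rTensor_tmul]
      have hc : π.toLinearMap (c : B') ∈ J • (⊤ : Submodule A' (B' ⧸ K)) := hker ▸ LinearMap.mem_ker.2 c.2
      change π.toLinearMap (c : B') ⊗ₜ[A'] j = 0
      refine Submodule.smul_induction_on (p := fun m => m ⊗ₜ[A'] j = 0) hc (fun a ha m _ => ?_)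
        (fun x y hx hy => by rw [TensorProduct.add_tmul, hx, hy, add_zero])
      have : a • j = 0 := Subtype.ext (by
        have := Ideal.mul_mem_mul ha j.2
        rw [hJ, Ideal.mem_bot] at this
        exact this)
      rw [TensorProduct.smul_tmul, this, TensorProduct.tmul_zero]
    | add x y hx hy => rw [map_add, map_add, hx, hy, add_zero]
  have h2 := FlatDevLib.flat_mod_pow (M := B' ⧸ K) J hinj 1
  have hb : J ^ (1 + 1) = ⊥ := by rw [pow_succ, pow_one, hJ]
  haveI : Module.Flat A' (A' ⧸ J ^ (1 + 1)) := Module.Flat.of_linearEquiv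
    ((Submodule.quotEquivOfEqBot _ hb) : (A' ⧸ J ^ (1 + 1)) ≃ₗ[A'] A')
  haveI := h2
  haveI : Module.Flat A' ((A' ⧸ J ^ (1 + 1)) ⊗[A'] (B' ⧸ K)) := Module.Flat.trans A' (A' ⧸ J ^ (1 + 1)) _
  exact Module.Flat.of_linearEquiv ((LinearEquiv.rTensor (B' ⧸ K) (Submodule.quotEquivOfEqBot _ hb)).trans
    (TensorProduct.lid A' (B' ⧸ K))).symm

end Groth.Agent.SqZeroLiftLib
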